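import Cfsg.Agent.Lang.SpecF4a
import Cfsg.Agent.GLn.Eigen

/-!
The prime graph of `F₄(2ⁿ)`.
-/

set_option autoImplicit false

namespace Cfsg.Agent.Lang

open Cfsg.Lie Cfsg.Lie.ChevalleyDatum Cfsg.Agent.Chev Equiv Cfsg.Agent.RGD

attribute [-simp] zsmul_eq_mul nsmul_eq_mul

section ord

variable {r : ℕ} [Fact r.Prime] (h2 : r ≠ 2) {q : ℕ}

include h2

theorem ord_f4 : ((r : ℤ) ∣ ev [-1, 0, 0, 0, 1] q ↔ orderOf (q : ZMod r) ∈ [1, 2, 4]) ∧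
    ((r : ℤ) ∣ ev [-1, -1, 0, 1, 1] q ↔ orderOf (q : ZMod r) ∈ [1, 2, 3]) ∧
    ((r : ℤ) ∣ ev [-1, 1, 0, -1, 1] q ↔ orderOf (q : ZMod r) ∈ [1, 2, 6]) ∧
    ((r : ℤ) ∣ ev [1, 0, 0, 0, 1] q ↔ orderOf (q : ZMod r) = 8) ∧
    ((r : ℤ) ∣ ev [1, 0, -1, 0, 1] q ↔ orderOf (q : ZMod r) = 12) ∧
    (orderOf (q : ZMod r) ∈ [1, 3] → (r : ℤ) ∣ ev [-1, 0, 0, 1] q) ∧
    (orderOf (q : ZMod r) ∈ [2, 6] → (r : ℤ) ∣ ev [1, 0, 0, 1] q) ∧
    (orderOf (q : ZMod r) = 4 → (r : ℤ) ∣ ev [1, 0, 1] q) := by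
  simp only [← ZMod.intCast_zmod_eq_zero_iff_dvd, ev, List.mem_cons, List.not_mem_nil, or_false]
  simp only [Int.cast_add, Int.cast_mul, Int.cast_neg, Int.cast_one, Int.cast_zero, Int.cast_natCast]
  generalize (q : ZMod r) = z
  have e2 : (2 : ZMod r) ≠ 0 := fun h => h2 ((Nat.prime_dvd_prime_iff_eq Fact.out Nat.prime_two).1
    ((ZMod.natCast_eq_zero_iff 2 r).1 h))
  have e3 : (3 : ZMod r) = 0 → z ^ 3 = z := fun h => by
    obtain rfl := (Nat.prime_dvd_prime_iff_eq Fact.out Nat.prime_three).1 ((ZMod.natCast_eq_zero_iff 3 r).1 h)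
    exact ZMod.pow_card z
  have o : ∀ n, orderOf z ∣ n ↔ z ^ n = 1 := fun n => orderOf_dvd_iff_pow_eq_one
  generalize orderOf z = e at *
  have d : ∀ n, n ≠ 0 → (z ^ n = 1 ↔ e ∈ n.divisors) := fun n h => by simp [← o, h]
  have d2 : z ^ 2 = 1 ↔ e ∈ ({1, 2} : Finset ℕ) := d 2 (by simp)
  have d3 : z ^ 3 = 1 ↔ e ∈ ({1, 3} : Finset ℕ) := d 3 (by simp)
  have d4 : z ^ 4 = 1 ↔ e ∈ ({1, 2, 4} : Finset ℕ) := d 4 (by simp)
  have d6 : z ^ 6 = 1 ↔ e ∈ ({1, 2, 3, 6} : Finset ℕ) := d 6 (by simp)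
  have d8 : z ^ 8 = 1 ↔ e ∈ ({1, 2, 4, 8} : Finset ℕ) := d 8 (by simp)
  have d12 : z ^ 12 = 1 ↔ e ∈ ({1, 2, 3, 4, 6, 12} : Finset ℕ) := d 12 (by simp)
  simp only [Finset.mem_insert, Finset.mem_singleton] at d2 d3 d4 d6 d8 d12
  clear d o h2
  have h1 : -1 + z * (0 + z * (0 + z * (0 + z * (1 + z * 0)))) = 0 ↔ z ^ 4 = 1 := by grind
  have h2 : -1 + z * (-1 + z * (0 + z * (1 + z * (1 + z * 0)))) = 0 ↔ z ^ 2 = 1 ∨ z ^ 3 = 1 := by
    clear * -; grind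
  have h3 : -1 + z * (1 + z * (0 + z * (-1 + z * (1 + z * 0)))) = 0 ↔ z ^ 2 = 1 ∨ z ^ 6 = 1 ∧ ¬ z ^ 3 = 1 := by
    clear * - e2; grind
  have h4 : 1 + z * (0 + z * (0 + z * (0 + z * (1 + z * 0)))) = 0 ↔ z ^ 8 = 1 ∧ ¬ z ^ 4 = 1 := by
    clear * - e2; grind
  have h5 : 1 + z * (0 + z * (-1 + z * (0 + z * (1 + z * 0)))) = 0 ↔ z ^ 12 = 1 ∧ ¬ z ^ 6 = 1 ∧ ¬ z ^ 4 = 1 := by
    refine ⟨fun h => by clear * - e2 e3 h; grind, fun h => ?_⟩
    refine mul_left_cancel₀ (a := (z ^ 6 - 1) * (z ^ 2 + 1)) (mul_ne_zero (sub_ne_zero.2 h.2.1) fun e => h.2.2 ?_) ?_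
    · linear_combination (z ^ 2 - 1) * e
    · linear_combination h.1
  have h6 : -1 + z * (0 + z * (0 + z * (1 + z * 0))) = 0 ↔ z ^ 3 = 1 := by clear * -; grind
  have h7 : 1 + z * (0 + z * (0 + z * (1 + z * 0))) = 0 ↔ z ^ 6 = 1 ∧ ¬ z ^ 3 = 1 := by clear * - e2; grind
  have h8 : 1 + z * (0 + z * (1 + z * 0)) = 0 ↔ z ^ 4 = 1 ∧ ¬ z ^ 2 = 1 := by clear * - e2; grind
  rw [h1, h2, h3, h4, h5, h6, h7, h8, d2, d3, d4, d6, d8, d12]
  omega

end ord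

theorem Tab.exists_kill {D : ChevalleyDatum} {C : Cert D} {rc co ca : ℕ → ℕ → ℤ} {len : ℕ → ℕ} {fs : ℕ → ℕ → ℕ}
    (T : Tab C rc co ca len fs) {A : Type*} [CommGroup A] {q : ℕ} {w : Perm (Rt D)} (hw : w ∈ C.Aut) {t : Nd D → A}
    (ht : t ∈ Tw C q w) {r : Rt D} (hr : chiT C r t = 1) : ∃ u ∈ C.Aut, ∃ v ∈ C.Aut, ∃ i : Nd D, ∃ s : Nd D → A,
      s ∈ Tw C q u ∧ s ∈ Tw C q v ∧ wsL C v = (wsL C u).map (fs i) ∧ ∀ n : ℤ, s ^ n = 1 → t ^ n = 1 := by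
  obtain ⟨v, hv, i, rfl⟩ := C.exists_sp_conj r
  replace hv := C.W_le_Aut hv
  have h1 := wact_mem_Tw (inv_mem hv) hw ht
  have h2 := mul_mem (mul_mem (inv_mem hv) hw) (inv_mem (inv_mem hv))
  refine ⟨_, h2, _, mul_mem (C.ss_mem_Aut i) h2, i, _, h1, ?_, ?_, fun n h => ?_⟩
  · rw [wact_fix_of_Tw (mul_mem (C.ss_mem_Aut i) h2) h2 h1, mul_inv_cancel_right, Cert.ss, wact_sr,
      ← chiT_wact hv, wact_wact_inv hv, hr, map_one, inv_one, mul_one]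
  · simp only [wsL, List.map_map]
    exact List.map_congr_left fun j hj => by simp only [Function.comp, dif_pos (List.mem_range.1 hj), ← T.ss]; rfl
  · rw [← wact_wact_inv hv t, ← map_zpow, h, map_one]

section bound

variable {k : Type*} [Field k] {q : ℕ} {w : Perm (Rt chevF4)} (hw : w ∈ certF4.Aut) {t : Nd chevF4 → kˣ}
  (ht : t ∈ Tw certF4 q w)

include hw ht

theorem f4_small (h : smallF4 (wsL certF4 w) = true) :
    ∃ μ ∈ [[-1, 0, 0, 0, 1], [-1, -1, 0, 1, 1], [-1, 1, 0, -1, 1]], t ^ ev μ q = 1 :=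
  (anyL_spec h).imp fun _ h => ⟨h.1, tabF4.zpow_eq_one rfl hw ht h.2⟩

theorem f4_ss : ∃ μ ∈ [[-1, 0, 0, 0, 1], [-1, -1, 0, 1, 1], [-1, 1, 0, -1, 1], [1, 0, 0, 0, 1], [1, 0, -1, 0, 1]],
    t ^ ev μ q = 1 := by
  rcases (bor_eq _ _).1 (tabF4.of_allT annF4 hw) with h | h
  · exact (f4_small hw ht h).imp fun _ h => ⟨List.mem_append_left [_, _] h.1, h.2⟩
  · exact (anyL_spec ((band_eq _ _).1 h).1).imp fun _ h =>
      ⟨List.mem_append_right [_, _, _] h.1, tabF4.zpow_eq_one rfl hw ht h.2⟩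

theorem f4_kill {r : Rt chevF4} (hr : chiT certF4 r t = 1) :
    ∃ μ ∈ [[-1, 0, 0, 0, 1], [-1, -1, 0, 1, 1], [-1, 1, 0, -1, 1]], t ^ ev μ q = 1 := by
  obtain ⟨u, hu, v, hv, i, s, h1, h2, h3, h4⟩ := tabF4.exists_kill hw ht hr
  rcases (bor_eq _ _).1 (tabF4.of_allT annF4 hu) with h | h
  · exact (f4_small hu h1 h).imp fun _ h => ⟨h.1, h4 _ h.2⟩
  · exact (f4_small hv h2 (h3 ▸ allLt_spec ((band_eq _ _).1 h).2 i i.2)).imp fun _ h => ⟨h.1, h4 _ h.2⟩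

end bound

section fin

variable {F : Type*} [Field F] [Finite F] [CharP F 2] {r s : ℕ} (hr : r.Prime) (hs : s.Prime) (h2 : s ≠ 2)

include hs h2

theorem f4_ord (h : s ∣ Nat.card (chevF4.group F)) : orderOf (Nat.card F : ZMod s) ∈ [1, 2, 3, 4, 6, 8, 12] := by
  have h1 := card_group_of_mem (c := (chevF4, [2, 6, 8, 12])) (by simp) F
  obtain ⟨f, -, hf⟩ := Sys.exists_card_pow F 2
  rw [card_cenT_of_cdet certF4 rfl, mul_one] at h1
  have h3 : orderOf (Nat.card F : ZMod s) ∈ Nat.divisors 8 ∨ orderOf (Nat.card F : ZMod s) ∈ Nat.divisors 12 := by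
    rcases hs.dvd_mul.1 (h1 ▸ h) with h | h
    · rw [hf, ← pow_mul] at h
      exact absurd ((Nat.prime_dvd_prime_iff_eq hs Nat.prime_two).1 (hs.dvd_of_dvd_pow h)) h2
    simp only [List.map, List.prod_cons, List.prod_nil, hs.dvd_mul, hs.not_dvd_one, or_false,
      GLn.dvd_pow_sub_one_iff _ _ _ Nat.card_pos] at h
    simp only [Nat.mem_divisors]
    rcases h with h | h | h | h
    exacts [Or.inl ⟨h.trans (by norm_num), by simp⟩, Or.inr ⟨h.trans (by norm_num), by simp⟩, Or.inl ⟨h, by simp⟩,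
      Or.inr ⟨h, by simp⟩]
  revert h3
  change _ ∈ ({1, 2, 4, 8} : Finset ℕ) ∨ _ ∈ ({1, 2, 3, 4, 6, 12} : Finset ℕ) → _
  simp only [Finset.mem_insert, Finset.mem_singleton, List.mem_cons, List.not_mem_nil]
  omega

theorem f4_two : (∃ x : chevF4.group F, orderOf x = 2 * s) ↔ orderOf (Nat.card F : ZMod s) ∈ [1, 2, 3, 4, 6] := by
  have := Fact.mk hs
  obtain ⟨e1, e2, e3, -, -, e4, e5, e6⟩ := ord_f4 h2 (q := Nat.card F)
  have h3 := (Nat.coprime_primes hs Nat.prime_two).2 h2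
  simp only [List.mem_cons, List.not_mem_nil, or_false] at *
  constructor
  · rintro ⟨x, hx⟩
    obtain ⟨f, -, hq⟩ := Sys.exists_card_pow F 2
    obtain ⟨w, hw, t, ht, v, hv, h⟩ := exists_mixed (AlgebraicClosure F) hq (C := certF4) rfl x
    replace hw := certF4.W_le_Aut hw
    obtain ⟨n, -, hn, hn'⟩ := isOfFinOrder_Tw (f_pos hq) hw ht
    obtain ⟨h4, h5⟩ := (h _).1 (hx ▸ pow_orderOf_eq_one x)
    have h6 : orderOf t ∣ s := (hn.coprime_dvd_left (orderOf_dvd_of_pow_eq_one hn')).dvd_of_dvd_mul_left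
      (orderOf_dvd_of_pow_eq_one h5)
    have h7 : ∃ r, chiT certF4 r t = 1 := by
      by_contra! h4
      replace hv := (certF4.sys _).U_mono (T' := ∅) (fun r hr => h4 r hr.2) hv
      rw [Sys.U_empty, Subgroup.mem_bot] at hv
      have := Nat.le_of_dvd hs.pos (orderOf_dvd_of_pow_eq_one ((h s).2 ⟨by rw [hv, one_pow],
        orderOf_dvd_iff_pow_eq_one.1 h6⟩))
      have := hs.pos; omega
    have h8 : orderOf t = s := ((Nat.dvd_prime hs).1 h6).resolve_left fun e => by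
      have : v ^ 2 = 1 := eq_one_of_coprime 2 (pow_mem ((certF4.sys _).U_mono Set.inter_subset_left hv) 2) h3
        (by rw [← pow_mul, h4])
      have := Nat.le_of_dvd two_pos (orderOf_dvd_of_pow_eq_one ((h 2).2 ⟨this, by rw [orderOf_eq_one_iff.1 e, one_pow]⟩))
      have := hs.one_lt; omega
    obtain ⟨μ, h9, e⟩ := f4_kill hw ht h7.choose_spec
    rw [← orderOf_dvd_iff_zpow_eq_one, h8, ← hq] at e
    simp only [List.mem_cons, List.not_mem_nil, or_false] at h9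
    rcases h9 with rfl | rfl | rfl
    · have := e1.1 e; omega
    · have := e2.1 e; omega
    · have := e3.1 e; omega
  · intro h
    generalize orderOf (Nat.card F : ZMod s) = e at *
    rcases (by omega : (e = 1 ∨ e = 3) ∨ (e = 2 ∨ e = 6) ∨ e = 4) with h | h | h
    · exact tabF4.order_mixed 2 rfl (w := [1, 0]) (v := [[0, 1, 0], [1, 1, 0], [1, 1, 1], [0, 0, 0]])
        (lam := [-1, 1, 0, 0]) (n := 1) (by decide +kernel) h3 (Nat.coprime_one_right _) (e4 h) ⟨0, by decide⟩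
        (by decide +kernel) (by decide +kernel)
    · exact tabF4.order_mixed 2 rfl (w := [2, 1, 0]) (v := [[0, -1, 0], [-1, -1, 0], [-1, -1, 1], [0, 0, 0]])
        (lam := [1, -1, 0, 0]) (n := 1) (by decide +kernel) h3 (Nat.coprime_one_right _) (e5 h) ⟨0, by decide⟩
        (by decide +kernel) (by decide +kernel)
    · exact tabF4.order_mixed 2 rfl (w := [2, 1]) (v := [[0, 0], [-1, 0], [-1, 1], [0, 0]])
        (lam := [0, -1, 0, 0]) (n := 1) (by decide +kernel) h3 (Nat.coprime_one_right _) (e6 h) ⟨0, by decide⟩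
        (by decide +kernel) (by decide +kernel)

include hr in
theorem f4_odd (h1 : r ≠ 2) (h3 : r ≠ s) : (∃ x : chevF4.group F, orderOf x = r * s) ↔
    ∃ μ ∈ [[-1, 0, 0, 0, 1], [-1, -1, 0, 1, 1], [-1, 1, 0, -1, 1], [1, 0, 0, 0, 1], [1, 0, -1, 0, 1]],
      (r : ℤ) ∣ ev μ (Nat.card F) ∧ (s : ℤ) ∣ ev μ (Nat.card F) := by
  have h4 : (r * s).Coprime 2 :=
    Nat.Coprime.mul_left ((Nat.coprime_primes hr Nat.prime_two).2 h1) ((Nat.coprime_primes hs Nat.prime_two).2 h2)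
  constructor
  · rintro ⟨x, hx⟩
    obtain ⟨f, -, hq⟩ := Sys.exists_card_pow F 2
    obtain ⟨w, hw, t, ht, v, hv, h⟩ := exists_mixed (AlgebraicClosure F) hq (C := certF4) rfl x
    obtain rfl := eq_one_of_coprime 2 ((certF4.sys _).U_mono Set.inter_subset_left hv) h4
      ((h _).1 (hx ▸ pow_orderOf_eq_one x)).1
    obtain ⟨μ, h5, e⟩ := f4_ss (certF4.W_le_Aut hw) ht
    rw [← orderOf_dvd_iff_zpow_eq_one, ← orderOf_eq_orderOf_iff.2 fun n => (h n).trans (and_iff_right (one_pow n)),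
      hx, ← hq, Nat.cast_mul] at e
    exact ⟨μ, h5, dvd_of_mul_right_dvd e, dvd_of_mul_left_dvd e⟩
  · rintro ⟨μ, h, e1, e2⟩
    have e : ((r * s : ℕ) : ℤ) ∣ ev μ (Nat.card F) :=
      Nat.cast_mul (α := ℤ) r s ▸ (Nat.isCoprime_iff_coprime.2 ((Nat.coprime_primes hr hs).2 h3)).mul_dvd e1 e2
    simp only [List.mem_cons, List.not_mem_nil, or_false] at h
    rcases h with rfl | rfl | rfl | rfl | rfl
    · exact tabF4.order_ss 2 rfl (w := [2, 1, 2, 1, 0]) (v := [[0, 1, 1, 0], [1, 2, 1, 0], [2, 2, 2, 0], [1, 1, 1, 1]])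
        (lam := [-2, 0, 1, 0]) (n := 2) (by decide +kernel) h4 h4 e
    · exact tabF4.order_ss 2 rfl (w := [3, 1, 0]) (v := [[0, 1, 1, 0], [1, 2, 1, 0], [1, 2, 2, 1], [1, 1, 1, 0]])
        (lam := [-1, 0, 0, 1]) (n := 1) (by decide +kernel) h4 (Nat.coprime_one_right _) e
    · exact tabF4.order_ss 2 rfl (w := [2, 1, 0]) (v := [[0, 0, 1, 0], [0, 1, 1, 0], [1, 1, 1, 0], [1, 0, 0, 1]])
        (lam := [0, -1, 1, 0]) (n := 1) (by decide +kernel) h4 (Nat.coprime_one_right _) e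
    · exact tabF4.order_ss 2 rfl (w := [3, 2, 1, 2, 1, 0])
        (v := [[0, 0, 1, 0], [0, 1, 1, 0], [1, 1, 1, 1], [1, 0, 1, 0]])
        (lam := [-1, 0, 0, 1]) (n := 1) (by decide +kernel) h4 (Nat.coprime_one_right _) e
    · exact tabF4.order_ss 2 rfl (w := [3, 2, 1, 0]) (v := [[0, 0, 0, 1], [0, 0, 1, 1], [0, 1, 1, 1], [1, 0, 0, 1]])
        (lam := [-1, 0, 0, 1]) (n := 1) (by decide +kernel) h4 (Nat.coprime_one_right _) e

end fin

end Cfsg.Agent.Lang
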