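import Cfsg.Agent.Lang.SpecG2

/-!
Annihilating polynomials in the Weyl group of type `F₄`.
-/

set_option autoImplicit false

namespace Cfsg.Agent.Lang

open Cfsg.Lie Cfsg.Lie.ChevalleyDatum Cfsg.Agent.Chev

/-- annihilation by a polynomial with a rational root -/
noncomputable def smallF4 (ws : List ℕ) : Bool :=
  anyL [[-1, 0, 0, 0, 1], [-1, -1, 0, 1, 1], [-1, 1, 0, -1, 1]] (annOK 4 rcF4 ws)

theorem annF4 : allT chevF4.nroots (okT chevF4.rank chevF4.simple coF4 caF4 lenF4) (fun ws =>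
    bor (smallF4 ws) (band (anyL [[1, 0, 0, 0, 1], [1, 0, -1, 0, 1]] (annOK 4 rcF4 ws))
      (allLt 4 fun i => smallF4 (ws.map (reflF4 i))))) chevF4.rank [] = true := by decide +kernel

end Cfsg.Agent.Lang
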