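import Cfsg.Agent.Lang.Cyc
import Cfsg.Agent.Cover.Roots

/-!
The tables of the exceptional types, and their cyclic tori.
-/

set_option autoImplicit false

namespace Cfsg.Agent.Lang

open Cfsg.Lie Cfsg.Lie.ChevalleyDatum Cfsg.Agent.Chev Equiv Cfsg.Agent.RGD

theorem tabG2 : Tab certG2 rcG2 coG2 caG2 lenG2 reflG2 := ⟨certG2_rc, certG2_len, dataOKG2, ssG2⟩

theorem tabB2 : Tab certB2 rcB2 coB2 caB2 lenB2 reflB2 := ⟨certB2_rc, certB2_len, dataOKB2, ssB2⟩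

theorem tabD4 : Tab certD4 rcD4 coD4 caD4 lenD4 reflD4 := ⟨certD4_rc, certD4_len, dataOKD4, ssD4⟩

theorem tabF4 : Tab certF4 rcF4 coF4 caF4 lenF4 reflF4 := ⟨certF4_rc, certF4_len, dataOKF4, ssF4⟩

theorem tabE6 : Tab certE6 rcE6 coE6 caE6 lenE6 reflE6 := ⟨certE6_rc, certE6_len, dataOKE6, ssE6⟩

theorem tabE7 : Tab certE7 rcE7 coE7 caE7 lenE7 reflE7 := ⟨certE7_rc, certE7_len, dataOKE7, ssE7⟩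

theorem tabE8 : Tab certE8 rcE8 coE8 caE8 lenE8 reflE8 := ⟨certE8_rc, certE8_len, dataOKE8, ssE8⟩

theorem card_cenT_of_cdet {D : ChevalleyDatum} (C : Cert D) (hd : C.cdet = 1) (F : Type*) [Field F] :
    Nat.card (cenT (carM D) F) = 1 := by
  rw [Subgroup.card_eq_one, eq_bot_iff]; exact fun _ h => cenT_eq_one C hd h

theorem cycG2 : cycOK chevG2.nroots chevG2.rank chevG2.simple rcG2 coG2 caG2 lenG2 reflG2 [1, 0, 1, 0]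
    [1, 1, 1]
    [[1, 0], [1, -1], [-2, 1]]
    [[1, 0], [1, -1]]
    [[-1, -1], [1, 2]]
    2 3 3 = true := by
  decide +kernel

theorem cycF4 : cycOK chevF4.nroots chevF4.rank chevF4.simple rcF4 coF4 caF4 lenF4 reflF4 [2, 1, 3, 2, 1, 0]
    [1, 0, 0, 0, 1]
    [[1, 0, 0, 0], [1, 1, -1, 0], [1, 0, 0, -1], [1, -1, 0, 0], [-1, 0, 0, 0]]
    [[1, 0, 0, 0], [1, 0, 0, -1], [2, -1, 0, -1], [1, 0, -1, 0]]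
    [[0, 0, -1, -1], [0, -1, 0, 0], [0, 1, 0, 1], [-1, 0, 1, 0]]
    11 2 3 = true := by
  decide +kernel

theorem cycE6 : cycOK chevE6.nroots chevE6.rank chevE6.simple rcE6 coE6 caE6 lenE6 reflE6 [4, 3, 1, 5, 2, 0, 2, 0]
    [1, 1, 0, -1, 0, 1, 1]
    [[1, 0, 0, 0, 0, 0], [-1, 0, 1, 0, 0, 0], [0, 1, 0, 0, -1, 1], [0, 0, 1, 0, -1, 0], [-1, 1, 1, -1, 0, 0], [0, 0, 0, 0, -1, 1], [0, 0, 0, 0, 0, -1]]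
    [[1, 0, 0, 0, 0, 0], [0, 0, 1, 0, 0, -1], [1, 1, 0, 0, 0, 0], [0, 1, 1, 0, -1, -1], [1, 1, 0, -1, 0, 0], [1, 1, 0, -1, 0, 1]]
    [[2, 1, -1, -1, 1, 2], [1, -1, 0, -1, 1, 0], [-1, 0, 0, 0, -1, 0], [-1, 0, 0, 1, 0, -1], [0, 0, 1, 0, 0, 0], [1, 0, -1, 0, 0, 1]]
    4 2 4 = true := by
  decide +kernel

theorem cycE7 : cycOK chevE7.nroots chevE7.rank chevE7.simple rcE7 coE7 caE7 lenE7 reflE7 [3, 1, 2, 5, 4, 5, 3, 0, 2, 4, 0, 5, 6]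
    [1, 0, -1, 1, 1, -1, 0, 1]
    [[0, 0, 0, 0, 0, 0, 1], [1, 0, 0, -1, 1, 0, 0], [0, 0, 1, -1, 0, 0, 1], [0, 0, 0, -1, 1, 0, 0], [0, 0, 0, 0, -1, 1, 0], [0, -1, -1, 1, 0, 0, 0], [1, 0, -1, 1, -1, 0, 0], [0, -1, 0, 1, 0, -1, 0]]
    [[0, 1, 0, -1, 0, 0, 0], [1, 0, -1, 0, 0, -1, 0], [0, 1, 0, -2, 0, 0, -1], [1, 1, -1, -2, 0, 0, -1], [1, 1, -1, -1, 0, 0, -1], [1, 1, -1, -1, 1, 0, -1], [1, 0, 0, 0, 0, 0, 0]]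
    [[1, 0, -2, 1, 1, -1, 0], [0, 0, 0, 1, -1, 0, 1], [-1, 1, 1, -2, 0, 1, 0], [0, 0, 0, 0, 1, 0, -1], [1, -1, 0, 1, -1, 0, 1], [-1, 0, 0, 0, 0, -1, 0], [0, 0, 0, -1, 0, 1, -1]]
    4 2 5 = true := by
  decide +kernel

theorem cycE8 : cycOK chevE8.nroots chevE8.rank chevE8.simple rcE8 coE8 caE8 lenE8 reflE8 [6, 2, 4, 5, 0, 7, 3, 1]
    [1, 1, 0, -1, -1, -1, 0, 1, 1]
    [[1, 0, 0, 0, 0, 0, 0, 0], [0, 0, -1, 1, 0, 0, 0, 0], [0, 1, 0, 0, -1, 1, 0, 0], [1, 0, -1, 1, -1, 1, -1, 1], [0, 1, -1, 1, -1, 1, -1, 0], [1, 1, -1, 1, -2, 1, 0, 0], [1, 1, -2, 1, -1, 1, -1, 1], [0, 1, -1, 1, -2, 2, -1, 0], [1, 1, -1, 1, -2, 1, -1, 1]]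
    [[1, 0, 0, 0, 0, 0, 0, 0], [0, 0, 1, 0, 1, 0, 0, -1], [0, 0, 1, 1, 1, 0, -1, -1], [0, 1, 1, 1, 1, 0, -1, -1], [1, 1, 1, 0, 0, -1, 0, 0], [1, 1, 1, 0, -1, -1, 0, 1], [0, 1, 1, 0, -1, 0, 0, 0], [-1, 0, 1, 1, 0, 0, 0, -1]]
    [[-1, -1, 1, 1, 1, 0, 0, -2], [-2, 1, 0, 2, 0, 1, -2, -1], [-1, 0, 0, 0, 0, 1, 0, 0], [3, 0, 0, -2, -1, -2, 1, 2], [-1, 0, -1, 1, 0, 1, 0, 0], [-1, 0, 1, 0, 1, 0, 0, -2], [0, -1, 0, 0, 1, 0, 0, 0], [2, 1, -1, -1, -2, 0, 0, 2]]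
    20 2 4 = true := by
  decide +kernel

end Cfsg.Agent.Lang
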