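import Cfsg.Agent.Lang.Spec
import Cfsg.Agent.Lang.Tabs

/-!
The element orders of `G₂(q)`.
-/

set_option autoImplicit false

namespace Cfsg.Agent.Lang

open Cfsg.Lie Cfsg.Lie.ChevalleyDatum Cfsg.Agent.Chev Equiv Cfsg.Agent.RGD

attribute [-simp] zsmul_eq_mul nsmul_eq_mul

section gen

variable {D : ChevalleyDatum} {C : Cert D} {k : Type*} [Field k]

/-- `μ` maps the root lattice to the span of two vectors -/
noncomputable def annK (l : ℕ) (rc : ℕ → ℕ → ℤ) (ws : List ℕ) (μ : List ℤ) (y z : ℕ → ℤ) : Bool :=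
  allLt l fun i => anyL [0, 1, -1, 2, -2, 3, -3, 6, -6, 9, -9] fun b => anyL [0, 1, -1, 2, -2, 3, -3, 6, -6, 9, -9] fun c =>
    allLt l fun a => zeq (vcomb (vit l rc ws fun a => if a = i then 1 else 0) μ 0 a) (b * y a + c * z a)

theorem closed_kill (t : Nd D → kˣ) : C.Closed ({r | C.Pos r} ∩ {r | chiT C r t = 1}) :=
  Cert.closed_pos.inter fun a ha b hb u e => by
    have := congrArg₂ (· * ·) ha hb
    simp only [chiT_eq_prod C a, chiT_eq_prod C b, ← Finset.prod_mul_distrib, ← zpow_add, mul_one] at this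
    simp only [Set.mem_ofPred_eq, chiT_eq_prod C u, e, Pi.add_apply, this]

variable {rc co ca : ℕ → ℕ → ℤ} {len : ℕ → ℕ} {fs : ℕ → ℕ → ℕ} (T : Tab C rc co ca len fs)

include T

theorem Tab.zpow_eq_one' (hd : C.cdet = 1) {q : ℕ} {w : Perm (Rt D)} (hw : w ∈ C.Aut) {t : Nd D → kˣ}
    (ht : t ∈ Tw C q w) {μ : List ℤ} {y z : ℕ → ℤ} (h : annK D.rank rc (wsL C w) μ y z = true)
    (hy : ∏ j : Nd D, chiT C (C.sp j) t ^ y j = 1) (hz : ∏ j : Nd D, chiT C (C.sp j) t ^ z j = 1) :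
    t ^ ev μ q = 1 := by
  refine cenT_eq_one C hd fun i => ?_
  have := T.prod_vit hw ht (fun a => if a = i then 1 else 0) μ
  obtain ⟨b, -, h1⟩ := anyL_spec (allLt_spec h i i.2)
  obtain ⟨c, -, h2⟩ := anyL_spec h1
  rw [Finset.prod_congr rfl fun j _ => by
      rw [of_decide_eq_true (allLt_spec h2 j j.2), zpow_add, mul_comm b, mul_comm c, zpow_mul, zpow_mul],
    Finset.prod_mul_distrib, Finset.prod_zpow, Finset.prod_zpow, hy, hz, one_zpow, one_zpow, mul_one,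
    Finset.prod_eq_single i (fun j _ hj => by simp [Fin.val_ne_of_ne hj]) (by simp), if_pos rfl, zpow_one,
    ← map_zpow, chiT_apply] at this
  simp only [C.A_sp] at this
  exact this.symm

theorem Tab.prod_rc {t : Nd D → kˣ} {r : Rt D} (h : chiT C r t = 1) : ∏ j : Nd D, chiT C (C.sp j) t ^ rc r j = 1 := by
  simp only [← T.rc, ← chiT_eq_prod, h]

theorem Tab.pow_eq_one_U (p : ℕ) [Fact p.Prime] [CharP k p] {t : Nd D → kˣ} {v : D.group k}
    (hv : v ∈ (C.sys k).U ({r | C.Pos r} ∩ {r | chiT C r t = 1})) (c : ℕ → ℤ) {m n : ℕ} (hn : m < p ^ n)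
    (h : ∀ r : Rt D, D.nroots ≤ 2 * r → chiT C r t = 1 →
      0 < sumLt D.rank (fun j => c j * rc r j) ∧ sumLt D.rank (fun j => c j * rc r j) ≤ m) : v ^ p ^ n = 1 := by
  have e : ∀ r, (∑ j : Nd D, c j • LinearMap.proj j : (Nd D → ℤ) →ₗ[ℤ] ℤ) (C.rc r) =
      sumLt D.rank (fun j => c j * rc r j) := fun r => by
    simp only [sumLt_eq, Finset.sum_range, LinearMap.sum_apply, LinearMap.smul_apply, LinearMap.proj_apply, T.rc,
      smul_eq_mul]
  refine pow_eq_one_of_ht p (closed_kill t) (fun r hr => (e r).symm ▸ (h r ((C.pos_iff_val r).1 hr.1) hr.2).1)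
    (fun r hr => (e r).symm ▸ (h r ((C.pos_iff_val r).1 hr.1) hr.2).2.trans_lt (by exact_mod_cast hn)) hv

omit T in
theorem exists_order_word (C : Cert D) (F : Type*) [Field F] (p : ℕ) [Fact p.Prime] [CharP F p] (L : List (Rt D)) :
    ∃ x : D.group F, ∀ n, x ^ n = 1 ↔ (L.map fun r => D.xMat (ZMod p) r 1).prod ^ n = 1 := by
  refine ⟨C.baseHom (ZMod.castHom (dvd_refl p) F) (L.map fun r => (C.sys (ZMod p)).x r 1).prod, fun n => ?_⟩
  rw [← map_pow, map_eq_one_iff _ (C.baseHom_inj _), ← map_eq_one_iff _ (Cert.toMat_inj (ZMod p)), map_pow, map_list_prod,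
    List.map_map]
  simp only [C.xMat_eq]; rfl

omit T in
theorem coprime_of_ev {m p q : ℕ} {c : ℤ} {P : List ℤ} (hc : c * c = 1) (hp : p ∣ q) (h : (m : ℤ) ∣ ev (c :: P) q) :
    m.Coprime p := by
  have h1 : (m.gcd p : ℤ) ∣ c := (dvd_add_left (Dvd.dvd.mul_right (Int.natCast_dvd_natCast.2
    ((Nat.gcd_dvd_right m p).trans hp)) _)).1 ((Int.natCast_dvd_natCast.2 (Nat.gcd_dvd_left m p)).trans h)
  exact Nat.dvd_one.1 (Int.natCast_dvd_natCast.1 ((h1.mul_right c).trans (dvd_of_eq hc)))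

omit T in
theorem char_dvd_card (F : Type*) [Field F] [Finite F] (p : ℕ) [Fact p.Prime] [CharP F p] : p ∣ Nat.card F := by
  obtain ⟨f, -, hf⟩ := Sys.exists_card_pow F p
  exact hf ▸ dvd_pow_self p (f_pos hf).ne'

omit T in
theorem maximal_subset {A S : Set ℕ} (h1 : ∀ a ∈ A, ∃ s ∈ S, a ∣ s) (h2 : S ⊆ A) :
    {n | n ∈ A ∧ ∀ m ∈ A, n ∣ m → m = n} ⊆ S := fun n hn => by
  obtain ⟨s, hs, e⟩ := h1 n hn.1
  exact hn.2 s (h2 hs) e ▸ hs

omit T in
theorem maximal_eq {A S : Set ℕ} (h1 : ∀ a ∈ A, ∃ s ∈ S, a ∣ s) (h2 : S ⊆ A)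
    (h3 : ∀ a ∈ S, ∀ b ∈ S, a ∣ b → b = a) : {n | n ∈ A ∧ ∀ m ∈ A, n ∣ m → m = n} = S :=
  (maximal_subset h1 h2).antisymm fun n hn => ⟨h2 hn, fun m hm e => by
    obtain ⟨s, hs, e'⟩ := h1 m hm
    exact Nat.dvd_antisymm (h3 n hn s hs (e.trans e') ▸ e') e⟩

end gen

theorem annG2 : allT chevG2.nroots (okT chevG2.rank chevG2.simple coG2 caG2 lenG2) (fun ws =>
    anyL [[-1, 0, 1], [1, 1, 1], [1, -1, 1]] (annOK 2 rcG2 ws) && allLt 12 fun r =>
      anyL [[-1, 1], [1, 1], [3]] fun μ => annK 2 rcG2 ws μ (rcG2 r) (vit 2 rcG2 ws (rcG2 r) 1)) chevG2.rank [] =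
    true := by decide +kernel

theorem pairG2 (ws : List ℕ) : ∀ r : Rt chevG2, 12 ≤ 2 * r.1 → r.1 ≠ 7 → r.1 ≠ 11 →
    annK 2 rcG2 ws [1] (rcG2 7) (rcG2 r) = true ∧ annK 2 rcG2 ws [3] (rcG2 11) (rcG2 r) = true := by
  change ∀ r : Rt chevG2, 12 ≤ 2 * r.1 → r.1 ≠ 7 → r.1 ≠ 11 →
    annK 2 rcG2 [] [1] (rcG2 7) (rcG2 r) = true ∧ annK 2 rcG2 [] [3] (rcG2 11) (rcG2 r) = true
  decide +kernel

theorem htG2 : ∀ r : Rt chevG2, chevG2.nroots ≤ 2 * r.1 →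
    (0 < sumLt 2 (fun j => 1 * rcG2 r j) ∧ sumLt 2 (fun j => 1 * rcG2 r j) ≤ (5 : ℕ)) ∧
    (r.1 = 7 ∨ r.1 = 11 → 0 < sumLt 2 (fun j => (1 - 2 * j) * rcG2 r j) ∧
      sumLt 2 (fun j => (1 - 2 * j) * rcG2 r j) ≤ (1 : ℕ)) ∧
    (r.1 ≠ 7 → 0 < sumLt 2 (fun j => j * rcG2 r j) ∧ sumLt 2 (fun j => j * rcG2 r j) ≤ (2 : ℕ)) ∧
    (r.1 ≠ 7 → r.1 ≠ 11 → 0 < sumLt 2 (fun j => j * rcG2 r j) ∧ sumLt 2 (fun j => j * rcG2 r j) ≤ (1 : ℕ)) := by
  decide +kernel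

/-- a regular unipotent element -/
def regG2 (p : ℕ) [Fact p.Prime] : Matrix chevG2.Idx chevG2.Idx (ZMod p) :=
  (([⟨7, by decide⟩, ⟨6, by decide⟩] : List (Rt chevG2)).map fun r => chevG2.xMat (ZMod p) r 1).prod

theorem regG2_two : ¬ regG2 2 ^ 2 ^ 2 = 1 ∧ regG2 2 ^ 2 ^ (2 + 1) = 1 := by decide +kernel
theorem regG2_three : ¬ regG2 3 ^ 3 ^ 1 = 1 ∧ regG2 3 ^ 3 ^ (1 + 1) = 1 := by decide +kernel
theorem regG2_five : haveI : Fact (Nat.Prime 5) := ⟨Nat.prime_five⟩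
  ¬ regG2 5 ^ 5 ^ 1 = 1 ∧ regG2 5 ^ 5 ^ (1 + 1) = 1 := by decide +kernel

section bound

variable {k : Type*} [Field k] (p : ℕ) [Fact p.Prime] [CharP k p] {q : ℕ} {w : Perm (Rt chevG2)}
  (hw : w ∈ certG2.Aut) {t : Nd chevG2 → kˣ} (ht : t ∈ Tw certG2 q w)

include hw ht

theorem g2_unip {v : chevG2.group k} (hv : v ∈ (certG2.sys k).U ({r | certG2.Pos r} ∩ {r | chiT certG2 r t = 1})) :
    v ^ p = 1 ∨ t = 1 ∨ t ^ 3 = 1 ∧ ∀ n, 2 < p ^ n → v ^ p ^ n = 1 := by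
  have hp : 1 < p ^ 1 := by simpa using (Fact.out : p.Prime).one_lt
  by_cases h : ∀ r : Rt chevG2, chevG2.nroots ≤ 2 * r.1 → chiT certG2 r t = 1 → r.1 = 7 ∨ r.1 = 11
  · exact Or.inl (by simpa using tabG2.pow_eq_one_U p hv _ hp fun r h1 h2 => (htG2 r h1).2.1 (h r h1 h2))
  push Not at h
  obtain ⟨s, h1, h2, h3, h4⟩ := h
  by_cases h7 : chiT certG2 (⟨7, by decide⟩ : Rt chevG2) t = 1
  · exact Or.inr (Or.inl (by
      simpa [ev] using tabG2.zpow_eq_one' rfl hw ht (pairG2 _ s h1 h3 h4).1 (tabG2.prod_rc h7) (tabG2.prod_rc h2)))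
  have h5 : ∀ r : Rt chevG2, chiT certG2 r t = 1 → r.1 ≠ 7 := fun r hr e => h7 ((Fin.ext e : r = ⟨7, by decide⟩) ▸ hr)
  by_cases h11 : chiT certG2 (⟨11, by decide⟩ : Rt chevG2) t = 1
  · refine Or.inr (Or.inr ⟨?_, fun n hn => tabG2.pow_eq_one_U p hv _ hn fun r h1 h2 => (htG2 r h1).2.2.1 (h5 r h2)⟩)
    have := tabG2.zpow_eq_one' rfl hw ht (pairG2 _ s h1 h3 h4).2 (tabG2.prod_rc h11) (tabG2.prod_rc h2)
    rw [← zpow_natCast]; simpa [ev] using this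
  · have := tabG2.pow_eq_one_U p hv _ hp fun r h1 h2 => (htG2 r h1).2.2.2 (h5 r h2) fun e =>
      h11 ((Fin.ext e : r = ⟨11, by decide⟩) ▸ h2)
    exact Or.inl (by simpa using this)

theorem g2_ss : t ^ (q ^ 2 - 1 : ℤ) = 1 ∨ t ^ (q ^ 2 + q + 1 : ℤ) = 1 ∨ t ^ (q ^ 2 - q + 1 : ℤ) = 1 := by
  obtain ⟨μ, h1, h2⟩ := anyL_spec (Bool.and_eq_true_iff.1 (tabG2.of_allT annG2 hw)).1
  have := tabG2.zpow_eq_one rfl hw ht h2
  simp only [List.mem_cons, List.not_mem_nil, or_false] at h1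
  rcases h1 with rfl | rfl | rfl
  · left; convert this using 2; simp only [ev]; ring
  · right; left; convert this using 2; simp only [ev]; ring
  · right; right; convert this using 2; simp only [ev]; ring

theorem g2_kill {r : Rt chevG2} (hr : chiT certG2 r t = 1) :
    t ^ (q - 1 : ℤ) = 1 ∨ t ^ (q + 1 : ℤ) = 1 ∨ t ^ 3 = 1 := by
  obtain ⟨μ, h1, h2⟩ := anyL_spec (allLt_spec (Bool.and_eq_true_iff.1 (tabG2.of_allT annG2 hw)).2 r r.2)
  have := tabG2.zpow_eq_one' rfl hw ht h2 (tabG2.prod_rc hr) (by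
    have := tabG2.prod_vit hw ht (rcG2 r) [0, 1]
    rw [tabG2.prod_rc hr, one_zpow] at this
    simp only [vcomb, zero_mul, zero_add, one_mul, add_zero] at this
    exact this)
  simp only [List.mem_cons, List.not_mem_nil, or_false] at h1
  rcases h1 with rfl | rfl | rfl
  · left; convert this using 2; simp only [ev]; ring
  · right; left; convert this using 2; simp only [ev]; ring
  · right; right; rw [← zpow_natCast]; simpa [ev] using this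

omit hw ht in
theorem three_cases {f : ℕ} (h : t ^ 3 = 1) : t ^ (p ^ f - 1 : ℤ) = 1 ∨ t ^ (p ^ f + 1 : ℤ) = 1 := by
  rcases eq_or_ne p 3 with rfl | h3
  · obtain rfl : t = 1 := funext fun i => Units.ext (by
      have := congrArg Units.val (congrFun h i)
      exact frobenius_inj k 3 (by simpa [frobenius_def] using this))
    simp
  have h1 : ¬ (3 : ℤ) ∣ p ^ f := fun h1 => h3 ((Nat.prime_dvd_prime_iff_eq Nat.prime_three Fact.out).1
    (Nat.prime_three.dvd_of_dvd_pow (n := f) (by exact_mod_cast h1))).symm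
  have h2 : t ^ (3 : ℤ) = 1 := by exact_mod_cast h
  rcases (by omega : (3 : ℤ) ∣ p ^ f - 1 ∨ (3 : ℤ) ∣ p ^ f + 1) with ⟨c, e⟩ | ⟨c, e⟩ <;> simp [e, zpow_mul, h2]

end bound

section fin

variable {F : Type*} [Field F] [Finite F] (p : ℕ) [Fact p.Prime] [CharP F p] {q : ℕ} (hq : Nat.card F = q)

include hq

theorem g2_bound (x : chevG2.group F) : orderOf x ∣ q ^ 2 - 1 ∨ orderOf x ∣ q ^ 2 + q + 1 ∨ orderOf x ∣ q ^ 2 - q + 1 ∨
    orderOf x ∣ p * (q - 1) ∨ orderOf x ∣ p * (q + 1) ∨ p = 2 ∧ (orderOf x ∣ 8 ∨ orderOf x ∣ 12) ∨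
      (p = 3 ∨ p = 5) ∧ orderOf x ∣ p ^ 2 := by
  obtain ⟨f, -, hf⟩ := Sys.exists_card_pow F p
  obtain rfl : q = p ^ f := hq ▸ hf
  obtain ⟨w, hw, t, ht, v, hv, h⟩ := exists_mixed (AlgebraicClosure F) hq (C := certG2) rfl x
  replace hw := certG2.W_le_Aut hw
  have h1 : 1 ≤ p ^ f := Nat.one_le_pow _ _ (Fact.out : p.Prime).pos
  have h2 : 1 ≤ (p ^ f) ^ 2 := Nat.one_le_pow _ _ h1
  have h3 : p ^ f ≤ (p ^ f) ^ 2 := Nat.le_self_pow two_ne_zero _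
  simp only [orderOf_dvd_iff_pow_eq_one, h]
  have key : v ^ p = 1 → t ^ (p ^ f - 1 : ℤ) = 1 ∨ t ^ (p ^ f + 1 : ℤ) = 1 →
      v ^ (p * (p ^ f - 1)) = 1 ∧ t ^ (p * (p ^ f - 1)) = 1 ∨ v ^ (p * (p ^ f + 1)) = 1 ∧ t ^ (p * (p ^ f + 1)) = 1 := by
    intro e e'
    simp only [pow_mul v, e, one_pow, true_and, pow_mul' t]
    refine e'.imp (fun e => ?_) (fun e => ?_) <;> rw [← zpow_natCast t] <;> push_cast [h1] <;> rw [e, one_pow]
  by_cases h4 : ∀ r, chiT certG2 r t ≠ 1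
  · replace hv := (certG2.sys _).U_mono (T' := ∅) (fun r hr => h4 r hr.2) hv
    rw [Sys.U_empty, Subgroup.mem_bot] at hv
    simp only [hv, one_pow, true_and, ← zpow_natCast t]
    push_cast [h1, h2, h3]
    rcases g2_ss hw ht with e | e | e <;> push_cast at e <;> simp only [e, true_or, or_true]
  push Not at h4
  obtain ⟨r, hr⟩ := h4
  have h5 : t ^ (p ^ f - 1 : ℤ) = 1 ∨ t ^ (p ^ f + 1 : ℤ) = 1 := by
    rcases g2_kill hw ht hr with e | e | e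
    exacts [Or.inl (by exact_mod_cast e), Or.inr (by exact_mod_cast e), three_cases p e]
  have h6 : 2 ≤ p := (Fact.out : p.Prime).two_le
  rcases g2_unip p hw ht hv with e | rfl | ⟨e, e'⟩
  · exact Or.inr (Or.inr (Or.inr ((key e h5).imp_right Or.inl)))
  · have h7 : ∀ n, 5 < p ^ n → v ^ p ^ n = 1 := fun n hn =>
      tabG2.pow_eq_one_U p hv (fun _ => 1) hn fun r h1 _ => (htG2 r h1).1
    rcases eq_or_ne p 2 with rfl | e2
    · simp [show v ^ 8 = 1 from h7 3 (by norm_num)]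
    by_cases e3 : p = 3 ∨ p = 5
    · have : v ^ p ^ 2 = 1 := h7 2 (by rcases e3 with rfl | rfl <;> norm_num)
      simp [this, e3]
    have h8 : p ≠ 4 := by rintro rfl; exact absurd (Fact.out : (4 : ℕ).Prime) (by norm_num)
    exact Or.inr (Or.inr (Or.inr ((key (by simpa using h7 1 (by rw [pow_one]; omega)) h5).imp_right Or.inl)))
  · rcases eq_or_ne p 2 with rfl | e2
    · have : v ^ 12 = 1 ∧ t ^ 12 = 1 :=
        ⟨by rw [show 12 = 2 ^ 2 * 3 from rfl, pow_mul, e' 2 (by norm_num), one_pow],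
          by rw [show 12 = 3 * 4 from rfl, pow_mul, e, one_pow]⟩
      simp [this]
    exact Or.inr (Or.inr (Or.inr ((key (by simpa using e' 1 (by rw [pow_one]; omega)) h5).imp_right Or.inl)))

theorem g2_orders : (∃ x : chevG2.group F, orderOf x = q ^ 2 - 1) ∧ (∃ x : chevG2.group F, orderOf x = q ^ 2 + q + 1) ∧
    (∃ x : chevG2.group F, orderOf x = q ^ 2 - q + 1) ∧ (∃ x : chevG2.group F, orderOf x = p * (q - 1)) ∧
    ∃ x : chevG2.group F, orderOf x = p * (q + 1) := by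
  subst hq
  have h1 : 1 ≤ Nat.card F := Nat.card_pos
  have h2 : 1 ≤ Nat.card F ^ 2 := Nat.one_le_pow _ _ h1
  have h3 : Nat.card F ≤ Nat.card F ^ 2 := Nat.le_self_pow two_ne_zero _
  have h4 := char_dvd_card F p
  have e1 : ((Nat.card F ^ 2 - 1 : ℕ) : ℤ) ∣ ev [-1, 0, 1] (Nat.card F) := dvd_of_eq (by push_cast [h2, ev]; ring)
  have e2 : ((Nat.card F ^ 2 + Nat.card F + 1 : ℕ) : ℤ) ∣ ev [1, 1, 1] (Nat.card F) :=
    dvd_of_eq (by push_cast [ev]; ring)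
  have e3 : ((Nat.card F ^ 2 - Nat.card F + 1 : ℕ) : ℤ) ∣ ev [1, -1, 1] (Nat.card F) :=
    dvd_of_eq (by push_cast [h3, ev]; ring)
  have e4 : ((Nat.card F - 1 : ℕ) : ℤ) ∣ ev [-1, 1] (Nat.card F) := dvd_of_eq (by push_cast [h1, ev]; ring)
  have e5 : ((Nat.card F + 1 : ℕ) : ℤ) ∣ ev [1, 1] (Nat.card F) := dvd_of_eq (by push_cast [ev]; ring)
  exact ⟨tabG2.order_ss p rfl (w := [0]) (v := [[1, 0], [1, 1]]) (lam := [1, 0]) (n := 1) (by decide +kernel)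
      (coprime_of_ev rfl h4 e1) (Nat.coprime_one_right _) e1,
    tabG2.order_ss p rfl (w := [1, 0, 1, 0]) (v := [[-1, 0], [-1, 1]]) (lam := [-1, 0]) (n := 1) (by decide +kernel)
      (coprime_of_ev rfl h4 e2) (Nat.coprime_one_right _) e2,
    tabG2.order_ss p rfl (w := [1, 0]) (v := [[0, 1], [1, 1]]) (lam := [-1, 1]) (n := 1) (by decide +kernel)
      (coprime_of_ev rfl h4 e3) (Nat.coprime_one_right _) e3,
    tabG2.order_mixed p rfl (w := []) (v := [[1], [0]]) (lam := [1, 0]) (n := 1) (by decide +kernel)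
      (coprime_of_ev rfl h4 e4) (Nat.coprime_one_right _) e4 ⟨0, by decide⟩ (by decide +kernel) (by decide +kernel),
    tabG2.order_mixed p rfl (w := [0]) (v := [[1], [0]]) (lam := [1, 0]) (n := 1) (by decide +kernel)
      (coprime_of_ev rfl h4 e5) (Nat.coprime_one_right _) e5 ⟨0, by decide⟩ (by decide +kernel) (by decide +kernel)⟩

omit hq [Finite F] in
theorem g2_order_unip {n : ℕ} (h : ¬ regG2 p ^ p ^ n = 1 ∧ regG2 p ^ p ^ (n + 1) = 1) :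
    ∃ x : chevG2.group F, orderOf x = p ^ (n + 1) := by
  obtain ⟨x, hx⟩ := exists_order_word certG2 F p [⟨7, by decide⟩, ⟨6, by decide⟩]
  exact ⟨x, orderOf_eq_prime_pow (mt (hx _).1 h.1) ((hx _).2 h.2)⟩

omit hq [Finite F] in
theorem g2_order_12 [CharP F 2] : ∃ x : chevG2.group F, orderOf x = 12 := by
  obtain ⟨x, hx⟩ := exists_order_word certG2 F 2 [⟨0, by decide⟩, ⟨2, by decide⟩, ⟨9, by decide⟩]
  refine ⟨x, orderOf_eq_of_pow_and_pow_div_prime (by norm_num) ((hx _).2 (by decide +kernel)) fun r hr h => ?_⟩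
  have : r ∣ 2 ^ 2 * 3 := h
  rcases (hr.dvd_mul).1 this with e | e
  · rw [(Nat.prime_dvd_prime_iff_eq hr Nat.prime_two).1 (hr.dvd_of_dvd_pow e)]
    exact mt (hx _).1 (by decide +kernel)
  · rw [(Nat.prime_dvd_prime_iff_eq hr Nat.prime_three).1 e]
    exact mt (hx _).1 (by decide +kernel)

end fin

end Cfsg.Agent.Lang
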