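import Cfsg.Agent.Lang.Syl

/-!
Certificates for the homocyclic Sylow subgroups.
-/

set_option autoImplicit false

namespace Cfsg.Agent.Lang

open Cfsg.Lie Cfsg.Lie.ChevalleyDatum Cfsg.Agent.Chev

/-- certificates for type G2 -/
def sylG2 : List SylC := [
  ⟨1, [], [7, 6],
    [-1, 1], [], [1],
    [[[1], []], [[], [1]]],
    [[1, 0], [0, 1]], 1⟩,
  ⟨2, [1, 0, 1, 0, 1, 0], [4, 5],
    [1, 1], [1], [1],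
    [[[1], []], [[], [1]]],
    [[1, 0], [0, 1]], 1⟩,
  ⟨3, [0, 1, 0, 1], [8, 0],
    [1, 1, 1], [1], [1],
    [[[-1], [-2, -1]]],
    [[-1, 0]], 1⟩,
  ⟨6, [0, 1], [9, 1],
    [1, -1, 1], [3, 2], [-1, 1],
    [[[-1], [-1, -1]]],
    [[-1, 0]], 1⟩]

theorem sylOKG2 : sylOK chevG2.rank chevG2.simple coG2 reflG2 [2, 6] sylG2 = true := by decide +kernel

/-- certificates for type B2 -/
def sylB2 : List SylC := [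
  ⟨1, [], [5, 4],
    [-1, 1], [], [1],
    [[[1], []], [[], [1]]],
    [[1, 0], [0, 1]], 1⟩,
  ⟨2, [1, 0, 1, 0], [2, 3],
    [1, 1], [1], [1],
    [[[1], []], [[], [1]]],
    [[1, 0], [0, 1]], 1⟩,
  ⟨4, [0, 1], [6, 0],
    [1, 0, 1], [2], [1],
    [[[1], [1, 1]]],
    [[1, 0]], 1⟩]

theorem sylOKB2 : sylOK chevB2.rank chevB2.simple coB2 reflB2 [2, 4] sylB2 = true := by decide +kernel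

/-- certificates for type D4 -/
def sylD4 : List SylC := [
  ⟨1, [], [18, 14, 13, 12],
    [-1, 1], [], [1],
    [[[1], [], [], []], [[], [1], [], []], [[], [], [1], []], [[], [], [], [1]]],
    [[1, 0, 0, 0], [0, 1, 0, 0], [0, 0, 1, 0], [0, 0, 0, 1]], 1⟩,
  ⟨2, [3, 1, 2, 0, 1, 3, 0, 1, 2, 0, 1, 0], [5, 9, 10, 11],
    [1, 1], [1], [1],
    [[[1], [], [], []], [[], [1], [], []], [[], [], [1], []], [[], [], [], [1]]],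
    [[1, 0, 0, 0], [0, 1, 0, 0], [0, 0, 1, 0], [0, 0, 0, 1]], 1⟩,
  ⟨3, [0, 1], [14, 4, 21, 20],
    [1, 1, 1], [1], [1],
    [[[-1], [-1, -1], [], []]],
    [[-1, 0, 0, 0]], 1⟩,
  ⟨4, [2, 1, 3, 0, 1, 0], [11, 2, 23, 18],
    [1, 0, 1], [2], [1],
    [[[0, 1], [], [], [1]], [[-1], [-1, -1], [-1], []]],
    [[0, 0, 0, 1], [0, 0, -1, 0]], 1⟩,
  ⟨6, [2, 0, 1, 3], [16, 12, 19, 1],
    [1, -1, 1], [3, 2], [-1, 1],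
    [[[-1, 1], [-2, 1], [-1, 1], [-1]]],
    [[1, -1, 0, 0]], 1⟩]

theorem sylOKD4 : sylOK chevD4.rank chevD4.simple coD4 reflD4 [2, 4, 4, 6] sylD4 = true := by decide +kernel

/-- certificates for type F4 -/
def sylF4 : List SylC := [
  ⟨1, [], [33, 27, 25, 24],
    [-1, 1], [], [1],
    [[[1], [], [], []], [[], [1], [], []], [[], [], [1], []], [[], [], [], [1]]],
    [[1, 0, 0, 0], [0, 1, 0, 0], [0, 0, 1, 0], [0, 0, 0, 1]], 1⟩,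
  ⟨2, [3, 2, 1, 2, 0, 1, 2, 3, 2, 1, 2, 0, 1, 2, 3, 2, 1, 2, 0, 1, 2, 0, 1, 0], [14, 20, 22, 23],
    [1, 1], [1], [1],
    [[[1], [], [], []], [[], [1], [], []], [[], [], [1], []], [[], [], [], [1]]],
    [[1, 0, 0, 0], [0, 1, 0, 0], [0, 0, 1, 0], [0, 0, 0, 1]], 1⟩,
  ⟨3, [2, 3, 2, 1, 2, 0, 1, 2, 3, 1, 2, 0, 1, 2, 0, 1], [28, 7, 31, 41],
    [1, 1, 1], [1], [1],
    [[[-1, -1], [], [1], [0, 1]], [[-1], [-1], [-1], [0, 1]]],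
    [[0, -1, 1, 0], [0, -1, 0, 0]], 1⟩,
  ⟨4, [3, 2, 0, 1, 2, 3, 2, 0, 1, 2, 0, 1], [38, 3, 41, 32],
    [1, 0, 1], [2], [1],
    [[[-1, 1], [-1], [], [-1, -1]], [[1], [], [-1, -1], [-1, 1]]],
    [[0, -1, 0, 0], [-1, 2, -1, -1]], 1⟩,
  ⟨6, [2, 3, 2, 0, 1, 2, 0, 1], [35, 8, 32, 42],
    [1, -1, 1], [3, 2], [-1, 1],
    [[[1], [], [-1, 1], [0, -1]], [[-1], [-1], [-1], [-1, 1]]],
    [[1, -1, 0, 0], [0, -1, 0, 0]], 1⟩,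
  ⟨8, [2, 3, 1, 2, 1, 0], [8, 35, 24, 30],
    [1, 0, 0, 0, 1], [4], [1],
    [[[0, -1], [-1, -1], [-1, -2, 1], [0, -1, 0, 1]]],
    [[1, -1, 0, 0]], 1⟩,
  ⟨12, [3, 2, 0, 1], [29, 11, 42, 25],
    [1, 0, -1, 0, 1], [6, 4], [-1, 0, 1],
    [[[1], [1, 1], [1, 2, 0, -1], [1, 1, -1]]],
    [[1, 0, 0, 0]], 1⟩]

theorem sylOKF4 : sylOK chevF4.rank chevF4.simple coF4 reflF4 [2, 6, 8, 12] sylF4 = true := by decide +kernel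

/-- certificates for type E6 -/
def sylE6 : List SylC := [
  ⟨1, [], [56, 46, 42, 39, 37, 36],
    [-1, 1], [], [1],
    [[[1], [], [], [], [], []], [[], [1], [], [], [], []], [[], [], [1], [], [], []], [[], [], [], [1], [], []], [[], [], [], [], [1], []], [[], [], [], [], [], [1]]],
    [[1, 0, 0, 0, 0, 0], [0, 1, 0, 0, 0, 0], [0, 0, 1, 0, 0, 0], [0, 0, 0, 1, 0, 0], [0, 0, 0, 0, 1, 0], [0, 0, 0, 0, 0, 1]], 1⟩,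
  ⟨2, [4, 3, 2, 1, 3, 4, 3, 2, 1, 3, 2, 1], [67, 25, 29, 32, 34, 55],
    [1, 1], [1], [1],
    [[[], [1], [], [], [], []], [[], [], [1], [], [], []], [[], [], [], [1], [], []], [[], [], [], [], [1], []]],
    [[0, 1, 0, 0, 0, 0], [0, 0, 1, 0, 0, 0], [0, 0, 0, 1, 0, 0], [0, 0, 0, 0, 1, 0]], 1⟩,
  ⟨3, [4, 5, 3, 4, 2, 3, 0, 2, 1, 3, 4, 5, 2, 3, 4, 3, 0, 2, 1, 3, 0, 2, 1, 0], [9, 19, 28, 42, 65, 11],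
    [1, 1, 1], [1], [1],
    [[[1, 1], [1], [1], [1], [1], []], [[], [], [1], [0, -1], [], []], [[1], [], [1], [1], [1], [1, 1]]],
    [[0, 1, 0, 0, 0, 0], [0, 0, 1, 0, -1, 0], [0, -1, 0, 0, 1, 0]], 1⟩,
  ⟨4, [2, 3, 4, 2, 3, 1], [58, 18, 37, 50, 29, 45],
    [1, 0, 1], [2], [1],
    [[[], [], [0, 1], [], [-1], []], [[], [-1], [-1], [-1, 1], [], []]],
    [[0, 0, 0, 0, -1, 0], [0, -1, 0, 0, 0, 0]], 1⟩,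
  ⟨5, [4, 5, 1, 3], [56, 40, 51, 23, 49, 33],
    [1, 1, 1, 1, 1], [1], [1],
    [[[], [0, 1], [], [0, 1, 1], [1, 1, 1], [1, 1, 1, 1]]],
    [[0, 0, 0, -1, 1, 0]], 1⟩,
  ⟨6, [3, 4, 5, 3, 4, 2, 1, 3, 0, 2, 1, 0], [22, 26, 12, 60, 53, 32],
    [1, -1, 1], [3, 2], [-1, 1],
    [[[], [0, -1], [-1], [-1], [-1], [-1]], [[-1], [], [-1, -1], [-2], [-1], [0, -1]]],
    [[2, 0, 0, -1, 0, 0], [-1, 0, 0, 0, 0, 0]], 1⟩,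
  ⟨8, [4, 2, 1, 3, 0], [14, 44, 62, 20, 50, 38],
    [1, 0, 0, 0, 1], [4], [1],
    [[[0, -1, 1], [0, 0, 0, 1], [-1, 0, 1], [-1, 0, 0, 1], [0, 0, 0, 1], []]],
    [[0, 1, 0, -1, 0, 0]], 1⟩,
  ⟨9, [0, 2, 3, 4, 5, 2, 3, 4, 2, 1], [44, 7, 34, 66, 30, 14],
    [1, 0, 0, 1, 0, 0, 1], [3], [1],
    [[[1], [1, 1, 0, 0, 1], [1, 1], [2, 1, -1, 1, 1, -1], [2, 1, -1, 1, 1], [1, 0, 0, 1]]],
    [[1, 0, 0, 0, 0, 0]], 1⟩,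
  ⟨12, [4, 5, 3, 2, 1, 0], [12, 23, 56, 51, 41, 33],
    [1, 0, -1, 0, 1], [6, 4], [-1, 0, 1],
    [[[-1, 1, 1, -1], [1, -1, 1], [0, 1], [0, 1, 1, -1], [1], [1, 0, -1, 1]]],
    [[-1, 0, 0, 1, 0, 0]], 1⟩]

theorem sylOKE6 : sylOK chevE6.rank chevE6.simple coE6 reflE6 [2, 5, 6, 8, 9, 12] sylE6 = true := by decide +kernel

/-- certificates for type E7 -/
def sylE7 : List SylC := [
  ⟨1, [], [93, 78, 73, 69, 66, 64, 63],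
    [-1, 1], [], [1],
    [[[1], [], [], [], [], [], []], [[], [1], [], [], [], [], []], [[], [], [1], [], [], [], []], [[], [], [], [1], [], [], []], [[], [], [], [], [1], [], []], [[], [], [], [], [], [1], []], [[], [], [], [], [], [], [1]]],
    [[1, 0, 0, 0, 0, 0, 0], [0, 1, 0, 0, 0, 0, 0], [0, 0, 1, 0, 0, 0, 0], [0, 0, 0, 1, 0, 0, 0], [0, 0, 0, 0, 1, 0, 0], [0, 0, 0, 0, 0, 1, 0], [0, 0, 0, 0, 0, 0, 1]], 1⟩,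
  ⟨2, [6, 5, 4, 3, 2, 1, 3, 4, 5, 6, 0, 2, 3, 4, 5, 1, 3, 4, 2, 3, 0, 2, 1, 3, 4, 5, 6, 0, 2, 3, 4, 5, 1, 3, 4, 2, 3, 0, 2, 1, 3, 4, 5, 1, 3, 4, 2, 3, 0, 2, 1, 3, 4, 2, 3, 0, 2, 1, 3, 0, 2, 1, 0], [32, 47, 52, 56, 59, 61, 62],
    [1, 1], [1], [1],
    [[[1], [], [], [], [], [], []], [[], [1], [], [], [], [], []], [[], [], [1], [], [], [], []], [[], [], [], [1], [], [], []], [[], [], [], [], [1], [], []], [[], [], [], [], [], [1], []], [[], [], [], [], [], [], [1]]],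
    [[1, 0, 0, 0, 0, 0, 0], [0, 1, 0, 0, 0, 0, 0], [0, 0, 1, 0, 0, 0, 0], [0, 0, 0, 1, 0, 0, 0], [0, 0, 0, 0, 1, 0, 0], [0, 0, 0, 0, 0, 1, 0], [0, 0, 0, 0, 0, 0, 1]], 1⟩,
  ⟨3, [3, 4, 5, 1, 3, 4, 2, 3, 0, 2, 1, 3, 4, 5, 3, 2, 1, 3, 4, 2, 3, 0, 2, 1], [83, 25, 15, 112, 50, 44, 123],
    [1, 1, 1], [1], [1],
    [[[], [], [1], [1], [1, 1], [], []], [[], [0, 1], [-1, -1], [-1], [], [-1], []], [[0, -1], [1], [1], [1], [], [], []]],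
    [[0, -1, -1, 2, 0, -1, 0], [0, 0, 0, 0, 0, -1, 0], [0, 1, 1, -1, 0, 0, 0]], 1⟩,
  ⟨4, [4, 5, 1, 3, 4, 3, 2, 1, 3, 2], [106, 84, 55, 40, 76, 79, 68],
    [1, 0, 1], [2], [1],
    [[[], [0, -1], [], [0, -1], [], [-1], []], [[], [0, 1], [1], [1, 1], [1, -1], [2], []]],
    [[0, 0, 2, 0, 0, -1, 0], [0, 0, 1, 0, 0, 0, 0]], 1⟩,
  ⟨5, [3, 0, 2, 1], [74, 46, 30, 99, 70, 64, 63],
    [1, 1, 1, 1, 1], [1], [1],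
    [[[1], [0, 0, 0, -1], [1, 1], [0, 0, -1, -1], [], [], []]],
    [[1, 0, 0, 0, 0, 0, 0]], 1⟩,
  ⟨6, [4, 2, 3, 0, 2, 1, 3, 4, 5, 6, 1, 3, 4, 5, 2, 3, 4, 2, 1, 3, 1], [106, 57, 111, 15, 76, 78, 41],
    [1, -1, 1], [3, 2], [-1, 1],
    [[[], [-1, 1], [], [], [1], [1, 1], [1]], [[0, -1], [0, 1], [0, 1], [1], [3, -1], [2], []], [[], [1, -1], [1], [1], [], [-1], [-1, 1]]],
    [[2, 0, 3, -3, 1, 0, 0], [-1, 0, -1, 1, 0, 0, 0], [1, 0, 1, 0, 0, 0, 0]], 1⟩,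
  ⟨7, [5, 6, 0, 2, 3, 4], [73, 99, 69, 67, 28, 98, 60],
    [1, 1, 1, 1, 1, 1, 1], [1], [1],
    [[[0, 0, 0, 1], [], [0, 0, 0, 1, 1], [0, 0, 0, 1, 1, 1], [-1, -1, -1], [-1, -1], [0, -1]]],
    [[0, 0, 0, 0, 0, -1, 1]], 1⟩,
  ⟨8, [5, 4, 1, 3, 2], [101, 71, 40, 73, 79, 66, 65],
    [1, 0, 0, 0, 1], [4], [1],
    [[[], [0, 0, 0, -1], [1], [1, 0, 0, -1], [1, 0, -1], [1, -1], []]],
    [[0, 0, 1, 0, 0, 0, 0]], 1⟩,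
  ⟨9, [5, 1, 3, 4, 2, 3, 2, 0], [24, 88, 99, 42, 73, 80, 65],
    [1, 0, 0, 1, 0, 0, 1], [3], [1],
    [[[0, 0, 1, -1, 1], [1, 0, 1, 0, 0, 1], [0, 1, 0, 0, 1], [0, 1, 1, 0, 0, 1], [0, 0, 1], [-1, 1, 0, -1, 1, -1], []]],
    [[-1, 2, 0, -1, 0, 1, 0]], 1⟩,
  ⟨10, [6, 5, 4, 2, 1, 3], [94, 77, 82, 39, 83, 66, 64],
    [1, -1, 1, -1, 1], [5, 2], [-1, 1],
    [[[], [-1, 1, -1, 1], [-1, 1, -1, 1], [-2, 1, -1, 1], [-1, 0, 0, 1], [-1, 0, 1], [-1, 1]]],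
    [[0, 1, 0, -1, 0, 0, 0]], 1⟩,
  ⟨12, [3, 4, 5, 0, 2, 1], [74, 46, 30, 103, 64, 54, 72],
    [1, 0, -1, 0, 1], [6, 4], [-1, 0, 1],
    [[[0, -1, 0, 1], [-1, -1, 1], [-1, -1, 0, 1], [-2, -1, 1, 1], [-1, -1, 0, 1], [-1], []]],
    [[1, 0, -1, 0, 0, 0, 0]], 1⟩,
  ⟨14, [4, 5, 6, 3, 2, 1, 3, 2, 0], [25, 73, 96, 50, 90, 63, 57],
    [1, -1, 1, -1, 1, -1, 1], [7, 2], [-1, 1],
    [[[0, 1, -1], [0, 0, -1, 1, 0, -1], [1, 0, -1], [0, 1, -2, 2, -2], [0, 0, 0, 0, -1], [0, -1, 2, -2, 1, -1], [1, -2, 2, -1]]],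
    [[-1, -2, 1, 3, -4, 2, 0]], 1⟩,
  ⟨18, [6, 4, 5, 3, 2, 1, 0], [29, 45, 93, 84, 72, 57, 67],
    [1, 0, 0, -1, 0, 0, 1], [9, 6], [-1, 0, 0, 1],
    [[[1, 0, 0, 0, 0, 1], [0, 1, 0, 1], [1, 0, 1, 0, 1], [1, 1, 1, 1], [1, 1, 1], [0, 1, 1], [0, 1]]],
    [[0, 0, 0, 0, 1, -1, 0]], 1⟩]

theorem sylOKE7 : sylOK chevE7.rank chevE7.simple coE7 reflE7 [2, 6, 8, 10, 12, 14, 18] sylE7 = true := by decide +kernel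

/-- certificates for type E8 -/
def sylE8 : List SylC := [
  ⟨1, [], [162, 141, 135, 130, 126, 123, 121, 120],
    [-1, 1], [], [1],
    [[[1], [], [], [], [], [], [], []], [[], [1], [], [], [], [], [], []], [[], [], [1], [], [], [], [], []], [[], [], [], [1], [], [], [], []], [[], [], [], [], [1], [], [], []], [[], [], [], [], [], [1], [], []], [[], [], [], [], [], [], [1], []], [[], [], [], [], [], [], [], [1]]],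
    [[1, 0, 0, 0, 0, 0, 0, 0], [0, 1, 0, 0, 0, 0, 0, 0], [0, 0, 1, 0, 0, 0, 0, 0], [0, 0, 0, 1, 0, 0, 0, 0], [0, 0, 0, 0, 1, 0, 0, 0], [0, 0, 0, 0, 0, 1, 0, 0], [0, 0, 0, 0, 0, 0, 1, 0], [0, 0, 0, 0, 0, 0, 0, 1]], 1⟩,
  ⟨2, [7, 6, 5, 4, 3, 2, 1, 3, 4, 5, 6, 0, 2, 3, 4, 5, 1, 3, 4, 2, 3, 0, 2, 1, 3, 4, 5, 6, 7, 6, 5, 4, 3, 2, 1, 3, 4, 5, 6, 0, 2, 3, 4, 5, 1, 3, 4, 2, 3, 0, 2, 1, 3, 4, 5, 6, 7, 6, 5, 4, 3, 2, 1, 3, 4, 5, 6, 0, 2, 3, 4, 5, 1, 3, 4, 2, 3, 0, 2, 1, 3, 4, 5, 6, 0, 2, 3, 4, 5, 1, 3, 4, 2, 3, 0, 2, 1, 3, 4, 5, 1, 3, 4, 2, 3, 0, 2, 1, 3, 4, 2, 3, 0, 2, 1, 3, 0, 2, 1, 0], [77, 98, 104, 109, 113, 116, 118, 119],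
    [1, 1], [1], [1],
    [[[1], [], [], [], [], [], [], []], [[], [1], [], [], [], [], [], []], [[], [], [1], [], [], [], [], []], [[], [], [], [1], [], [], [], []], [[], [], [], [], [1], [], [], []], [[], [], [], [], [], [1], [], []], [[], [], [], [], [], [], [1], []], [[], [], [], [], [], [], [], [1]]],
    [[1, 0, 0, 0, 0, 0, 0, 0], [0, 1, 0, 0, 0, 0, 0, 0], [0, 0, 1, 0, 0, 0, 0, 0], [0, 0, 0, 1, 0, 0, 0, 0], [0, 0, 0, 0, 1, 0, 0, 0], [0, 0, 0, 0, 0, 1, 0, 0], [0, 0, 0, 0, 0, 0, 1, 0], [0, 0, 0, 0, 0, 0, 0, 1]], 1⟩,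
  ⟨3, [3, 4, 5, 1, 3, 4, 2, 3, 0, 2, 1, 3, 4, 5, 6, 7, 6, 5, 4, 3, 2, 1, 3, 4, 5, 6, 0, 2, 3, 4, 5, 1, 3, 4, 2, 3, 0, 2, 1, 3, 4, 5, 6, 7, 2, 1, 3, 4, 5, 6, 0, 2, 3, 4, 5, 1, 3, 4, 2, 3, 0, 2, 1, 3, 4, 5, 6, 2, 1, 3, 4, 5, 3, 2, 1, 3, 4, 3, 0, 2], [159, 195, 17, 192, 51, 148, 27, 172],
    [1, 1, 1], [1], [1],
    [[[0, -1], [2], [2, 1], [4, 1], [3], [3], [2], []], [[-1, 1], [-2, 1], [-3], [-5], [-4], [-3], [-2], []], [[], [1], [1, 1], [2, 1], [1], [1], [1], []], [[-2], [-2], [-4], [-4, 1], [-4, -1], [-3], [-1], [-1]]],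
    [[0, 0, 1, -1, -1, 2, 0, -2], [0, 0, 1, -1, -1, 1, 1, 0], [0, 0, 0, 0, 0, -2, 3, 3], [0, 0, 0, 0, 0, 0, 0, -1]], 1⟩,
  ⟨4, [0, 2, 1, 3, 4, 5, 6, 7, 4, 3, 2, 1, 3, 4, 5, 6, 0, 2, 3, 4, 5, 1, 3, 4, 2, 3, 0, 2, 1, 3, 4, 5, 6, 7, 2, 3, 0, 2, 1, 3, 4, 5, 6, 3, 4, 5, 4, 2, 3, 0, 2, 1, 3, 4, 3, 0, 2, 1, 3, 2], [212, 160, 113, 17, 135, 231, 71, 35],
    [1, 0, 1], [2], [1],
    [[[0, -1], [2], [1, -1], [2], [1], [1], [1, -1], []], [[-1], [], [], [-1, 1], [-1], [0, 1], [], []], [[], [], [0, -1], [], [-1], [], [], []], [[-1], [-2], [-1], [-3], [-2, -1], [-1], [], [0, -1]]],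
    [[-2, -1, 0, 2, 0, -2, 2, 0], [2, 3, 0, -4, 0, 4, -2, 0], [0, 0, 0, 2, -2, -2, 0, 2], [-2, -2, 0, 2, 0, -2, 2, 0]], 2⟩,
  ⟨5, [7, 1, 3, 4, 5, 6, 0, 2, 3, 4, 5, 1, 3, 4, 2, 3, 0, 2, 1, 3, 4, 5, 6, 7, 6, 4, 5, 1, 3, 4, 2, 3, 0, 2, 1, 3, 4, 5, 6, 3, 4, 5, 2, 3, 4, 3, 0, 2], [184, 198, 13, 210, 83, 131, 23, 154],
    [1, 1, 1, 1, 1], [1], [1],
    [[[1, 2, 1], [2, 3, 1], [2, 4, 2], [4, 6, 3], [3, 5, 3], [2, 4, 2], [2, 3, 2, 1], [1, 1, 1]], [[1, 1, 0, -1], [0, 1, 1], [1, 2, 2], [0, 1, 1], [], [-1, -1], [-1], [0, 1, 1, 1]]],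
    [[-1, -2, 0, 3, -1, -1, 0, -1], [-2, 0, 1, 0, 2, -2, 0, -2]], 1⟩,
  ⟨6, [3, 4, 5, 1, 3, 4, 2, 3, 0, 2, 1, 3, 4, 5, 6, 7, 6, 4, 5, 1, 3, 4, 2, 3, 0, 2, 1, 3, 4, 5, 6, 4, 5, 2, 1, 3, 4, 3, 0, 2], [181, 205, 22, 198, 54, 149, 28, 173],
    [1, -1, 1], [3, 2], [-1, 1],
    [[[-1, 1], [-2, 1], [], [-1, -1], [-2, 1], [-1], [-2], [0, 1]], [[-1], [-1], [-1], [-1], [-1], [-1], [-1], [-1, 1]], [[1, -1], [1], [1], [2], [2], [2], [1], []], [[], [1], [], [], [1, -1], [1, -1], [1], [1, -1]]],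
    [[0, 1, 0, 0, -1, 1, -1, 0], [0, 2, -2, 1, -1, 1, -2, 0], [0, 2, -1, 1, -1, 1, -2, 0], [0, 2, -1, 0, -2, 2, -1, 0]], 1⟩,
  ⟨7, [6, 4, 5, 3, 0, 2], [137, 143, 74, 163, 133, 111, 127, 122],
    [1, 1, 1, 1, 1, 1, 1], [1], [1],
    [[[0, 0, 0, 0, 0, -1], [], [1, 1, 1, 1, 1], [1, 1, 1, 1], [1, 1, 1], [0, 1, 1], [0, 1], []]],
    [[0, 0, 0, 0, 1, -1, 0, 0]], 1⟩,
  ⟨8, [3, 0, 2, 1, 3, 4, 5, 6, 7, 1, 3, 4, 5, 6, 4, 2, 3, 0, 2, 1, 3, 4, 5, 2, 1, 3, 4, 3, 2, 1], [199, 59, 52, 227, 45, 67, 205, 97],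
    [1, 0, 0, 0, 1], [4], [1],
    [[[0, 1, 1, -1], [0, 2, 1], [0, 2, 2, -1], [1, 3, 2], [1, 2, 2], [1, 1, 2], [1, 1, 1], [0, 1]], [[1, -1, -1, 1], [1, -2, -1, -1], [2, -2, -2, 1], [1, -2, -2, -1], [0, -1, -2], [0, 0, -2], [-1, -1, -1], [0, -1, 1]]],
    [[-1, -2, 1, 2, -2, 0, 1, 0], [-1, -1, 1, 1, -1, 0, 0, 0]], 1⟩,
  ⟨9, [5, 6, 5, 3, 4, 1, 3, 0, 2, 1], [154, 111, 63, 167, 141, 132, 116, 125],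
    [1, 0, 0, 1, 0, 0, 1], [3], [1],
    [[[0, -1], [-1, -1, 0, 0, -1], [0, -1, -1], [-1, -1, -1], [-1, 0, 0, -1, 0, 1], [0, 0, 0, 0, 0, 1], [0, 0, 0, 0, 0, 1], []]],
    [[0, 0, 1, -1, 0, 0, 0, 0]], 1⟩,
  ⟨10, [3, 0, 2, 1, 3, 4, 5, 6, 7, 4, 2, 3, 0, 2, 1, 3, 4, 5, 6, 5, 3, 4, 0, 2], [170, 152, 61, 182, 93, 145, 32, 149],
    [1, -1, 1, -1, 1], [5, 2], [-1, 1],
    [[[0, 1, 0, 1], [-1, 2, -1], [-1, 2, -1, 1], [0, 1, 1, -1], [1, 1], [1, 1, -1], [0, 0, 1, -1], [1, -2, 1]], [[], [-1, 1, -1], [-1, 1, -1], [-1, 0, 0, -1], [0, 0, -1], [0, 0, -1], [0, -1, 1, -1], [1, -2, 1]]],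
    [[1, 0, -1, 1, -1, 1, -1, 0], [-1, -1, 1, -2, 2, -1, 2, -1]], 1⟩,
  ⟨12, [0, 2, 3, 4, 5, 6, 7, 5, 6, 2, 1, 3, 4, 5, 2, 1, 3, 4, 2, 1], [195, 67, 106, 183, 59, 126, 175, 73],
    [1, 0, -1, 0, 1], [6, 4], [-1, 0, 1],
    [[[1], [1], [1, 1], [2, 1, -1], [2, 1, -1], [1, 1, 0, -1], [0, 1, 0, -1], []], [[-1], [-1, -1, 1], [-1, -1], [-2, -2, 1, 1], [-3, -1, 1], [-2, -1, 0, 1], [-2, 0, 1], [-1, 1]]],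
    [[3, -1, 0, 1, -1, -1, 1, -1], [2, -1, 0, 1, -1, -1, 1, -1]], 1⟩,
  ⟨14, [5, 6, 3, 4, 1, 3, 0, 2, 1], [153, 112, 64, 166, 141, 133, 115, 125],
    [1, -1, 1, -1, 1, -1, 1], [7, 2], [-1, 1],
    [[[0, 0, -1, 1], [-1, 0, 0, 0, 1, -1], [0, 0, -1, 0, 1], [0, -1, 0, 0, 1], [-1, 1, -1, 1, -1, 1], [-1, 1, 0, -1, 1], [0, -1, 2, -2, 1], []]],
    [[2, -1, -1, 0, -1, 1, 0, 0]], 1⟩,
  ⟨15, [1, 3, 4, 5, 6, 7, 0, 2, 1, 3, 4, 5, 6, 3, 0, 2], [132, 171, 86, 152, 124, 120, 62, 164],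
    [1, -1, 0, 1, -1, 1, 0, -1, 1], [5, 3], [-1, 1],
    [[[-1, 2, -1, -1, 1], [0, 0, -1, 1], [-1, 2, -2, 0, 2, -2, 1], [-1, 1, -1, 1, 0, -1, 1], [0, -1, 1, 0, -1, 1], [0, 0, -1, 2, -2, 0, 2, -1], [0, 0, -1, 2, -2, 1], [1, -1, 0, 1, -1, 1, -1, 1]]],
    [[1, 1, -2, 1, -2, 1, -2, 1]], 1⟩,
  ⟨18, [5, 6, 4, 0, 2, 1, 3], [135, 166, 144, 68, 169, 128, 115, 125],
    [1, 0, 0, -1, 0, 0, 1], [9, 6], [-1, 0, 0, 1],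
    [[[1, 0, 0, 0, -1], [1, 0, 1, -1, 0, -1], [1, 1, 0, 0, -1, -1], [2, 1, 1, -1, -1, -1], [1, 1, 1, -1, -1, -1], [1, 1, 0, -1, -1], [0, 1, 0, 0, -1], []]],
    [[0, 0, 0, 1, -1, 0, 0, 0]], 1⟩,
  ⟨20, [5, 6, 7, 4, 5, 6, 5, 3, 4, 0, 2, 1, 3, 1], [138, 71, 146, 95, 171, 133, 111, 126],
    [1, 0, -1, 0, 1, 0, -1, 0, 1], [10, 4], [-1, 0, 1],
    [[[0, 1], [0, 1, 1, 0, -1, 0, 1], [0, 1, 1], [0, 1, 2, 1, -1, -1, 1], [1, 1, 1, 0, -1, 0, 1], [0, 1, 2, 0, -2, 0, 1], [0, 0, 1, 1, -1], [0, 0, 0, 0, 0, 1, 0, -1]]],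
    [[0, -1, 0, 0, 1, 0, 0, 0]], 1⟩,
  ⟨24, [6, 7, 0, 2, 3, 4, 5, 1, 3, 4, 0, 2], [174, 126, 55, 186, 67, 141, 168, 117],
    [1, 0, 0, 0, -1, 0, 0, 0, 1], [12, 8], [-1, 0, 0, 0, 1],
    [[[0, 1, 1, 0, 0, -1], [0, 1, 1, 1, 0, -1], [0, 1, 1, 1, 1, -1, 0, -1], [0, 1, 2, 2, 1, -1, -1, -1], [0, 1, 2, 1, 1, -1, -1], [1, 1, 1], [1, 1], [0, 1]]],
    [[0, 0, 0, 0, 0, 0, 1, -1]], 1⟩,
  ⟨30, [3, 4, 5, 6, 7, 0, 2, 1], [136, 97, 75, 174, 123, 121, 120, 105],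
    [1, 1, 0, -1, -1, -1, 0, 1, 1], [15, 10, 6], [1, 1, 0, -1, -1, -1, -1, 0, 1, 1],
    [[[0, 1, 1], [0, 1, 1, 1], [0, 1, 2, 1], [1, 2, 2, 1], [1, 1, 1, 1, 1], [1, 1, 0, 0, 1, 1], [1, 1, 0, -1, 0, 1, 1], [1, 1, 0, -1, -1, 0, 1, 1]]],
    [[-1, -1, 0, 1, 0, 0, 0, 0]], 1⟩]

theorem sylOKE8 : sylOK chevE8.rank chevE8.simple coE8 reflE8 [2, 8, 12, 14, 18, 20, 24, 30] sylE8 = true := by decide +kernel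

end Cfsg.Agent.Lang
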